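import Cfsg.Agent.CosetCert.Pack

/-! Generated: facts of the log. -/

set_option autoImplicit false
set_option maxRecDepth 100000

namespace Cfsg.Agent.HeRecog.M8a.SB2ColW

open Cfsg.Agent.CosetCert

def factStore : Store := (.node 1 (.leaf 0x130000900002130001d00000130002300000130002200002130001d0002407000220002413000270002313000220002513000210000d07000090000007000000000213000270003313000280002513000290000d130002000004130001f000040e000090001d130001e0000a0e0000200000130000900011060001d0002713000260001d130000000008130000f000021300000000100e0002500033070000d0000407000040000a130000d0001c130000b0000413000040000c0e0001f00029060000d0002507000020001d0e000040001c060000200002130001900002070000800002130001a0000613000020001513000080001b0100006000020300006000040200002000061300002000071300006000170e000020001b01000150001a030001700004010001700002010000200017130001800017030000400018020000200017060000400004050000400000050000000004040000400000000000400004130000400005050000600015000000500004030000f000100800000000000a000000000009000000000007000000000f0300002000000600000000000500000000050200000000040300000000020000002000021300002000030000000000001300000000010300000000030600033000320e00032000310e000310003006000300002f0e0002f0002e060002e0002d0e0002d0002c060002c0002b0e0002b0002a0c0002a000000600029000280e00028000270600027000260e000260000f07000250002406000240002307000230002206000220002107000210002006000200001f070001f0001e060001e00011070001d00011050001c00011030001b00011020001a000190600019000020100018000020e00017000160100016000110000015000140200014000130e00013000120000012000110700011000000d0001000000060000f0000e070000e0000d070000d0000c060000c0000b070000b0000a060000a00009070000900008070000800007010000700006040000600002040000500000010000400000000000300002030000200001000000100000)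 (.leaf 0x70000000000130000200000130000e00000130000d00002070000200000130000400000130000a00002))


end Cfsg.Agent.HeRecog.M8a.SB2ColW
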