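import Cfsg.Agent.CosetCert.Pack

/-! Generated: justifications. -/

set_option autoImplicit false
set_option maxRecDepth 100000

namespace Cfsg.Agent.HeRecog.M8a.SB2ColW

open Cfsg.Agent.CosetCert

def justStore : Store := (.node 1 (.leaf 0x40800004000000700001a00006000016000050000120000400000e0000300000a0001e0002dfc0000330000da0400d400001f80000200005f4000030000be000004000348100350000150001b408019c0000b38000d0000018001b50000140006902006700000bd8000040000080000000037a00000003ab0038f00373002660021d00202001d2001a30015f0011a000bb000780005b00000000000000000000000000000000000000000000000000000000000000000000000000000000000000000000000000000000000000000000000000000000000000000000000000000000000000000000000000000000000000000000000000000000000000000000000000000000000000000000000000000000000000000000) (.node 2 (.leaf 0x6d0001fa0006f8001b700004f60003ec000470003dc0011b400077a8000f9000114000dd40008ef0000f60003d4000dd40008a30001e60006b8001b68000ec90003c40801b80009220001e0000660001d20008ea0004f7e000778000860006da0004594000718000820006ea0004308001b20400dc000016a0006981003700001668001ce000270001ba80013df8001ca000280001b680014650001c2000600001ba80014c90001c20001f8001b680010640001ba0001e8001ba8000ff00006c81003a8000ec8000d80000ec000db40007bd0001a00400ea0000100001a400008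8001ba80004cc0003500801b40009ef4000d100012c000db80009ad0000d10001ec000dd400003c00019c000418001b500007eb0002040001e020133000009100024c000cb0002f800064000188000600001780005c00016800058000158000540001481028c800002e8000c702006e00004a8001880400dc0001576000610000320006ea0001b240006100002c0006da000171a000478000d6000038000320000d80003a0003d8000fc080a60000011a000458000e6000358000f2000378000e2000108000760001e8000a000027000098000250000f60003e050317800007a0000700001a00012000046000110000420001000003e0000f00003a00008000076030a2d00000f20001c000040020458000011a0001b00004002045600001880016c0400da0000550000598000640006d20003344000578100370000156000160000500001b40000d7900021c000aa000240040ca0000028c000a600003c000dd40002274000a5020068000029f0002940801a800012900009502006900006c0002900009b00036800002f20000580013c0004601011100000790000d00002001021e00000f20000580010c000190000600003c0000ec06083a000012c0004c010035000025e0004c010034000014c80005c0400d00002fc8000960002540007802021c00000e000170000f002043600001e40002c0000a80002001031500000d60000380000c0003b01010a00000740002240801b000002200007502006c0000490002240801ac00002140008902006700004d60000380010800003010109800007900002c00028000098000240000880002002051200000e8000030001020003e00010002081600001e80001e01018300000820000001ab701a57019e20198201922018c30187a01805017a501745016fd016b301653015f30159301533014d30148b0142e013e5013870133e012de0127e0121f011c00106e0102400fdd00f7d00f1d00e3900cbb00b8000b2100ac100a7900a19009cf0096f008fa0089a0085000806007bc00760006eb0068c005d50058b00543004f90048400429003b40033f002f6002ac002660021c001a7000f0000650001c00000)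 (.leaf 0x4140010a02006e00000ec0008480003a00068000236800017500020e0000d8001ba800074100010300032c000dd400037b4000fe02006e00000ea000404000c900037500004b80003fc0001300036d0000a0028b0028b0028b0028b0028b0028b0028b0028b0028b0028b0028b0028b0028b0028b0028b0028b0028b0028b0028b0028b0028b0028b0028b0028b0028b0028b0028b0028b0028b0028b0028b0028b0028b0028b0028b0028b0028b0028b0028b0028b0028b0028b0028b0028b0028b0028b0028b0028b0028b0028b0028b0028b0028b0028b0028b0028b0028b0028b00240001cb0016b0010a000c00006000000)))


end Cfsg.Agent.HeRecog.M8a.SB2ColW
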